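import Groth.Agent.H53.ZMT.LqfSep2
import Groth.Agent.H53.ZMT.QAffZMT
import Groth.Agent.H53.QAffMor
import Groth.Agent.H49.AlgSpQC

set_option autoImplicit false
set_option backward.isDefEq.respectTransparency false
open CategoryTheory CategoryTheory.Limits AlgebraicGeometry Opposite
universe u

/-! A separated, quasi-compact, locally quasi-finite morphism from an algebraic space to a scheme is
quasi-affine (Zariski's main theorem). -/

namespace Groth.Agent.H64.DMQ

open AlgSp Groth.Agent.H53 Groth.Agent.H53.ZMT

variable {S : Scheme.{u}}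

/-- the scheme case -/
theorem isQuasiAffineMor_yon_map_of_sep_qc_lqf {G T : Over S} (g : G ⟶ T)
    (hsep : IsSeparated g.left) (hqc : QuasiCompact g.left)
    (hqf : LocallyQuasiFinite g.left) (hft : LocallyOfFiniteType g.left) :
    IsQuasiAffineMor ((yon S).map g) := by
  intro Z hZ z
  obtain ⟨ζ, rfl⟩ := (yon S).map_surjective z
  have sq := IsPullback.of_hasPullback g ζ
  have sqS := sq.map (Over.forget S)
  have h1 : IsSeparated (pullback.snd g ζ).left :=
    MorphismProperty.of_isPullback (P := @IsSeparated) sqS hsep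
  have h2 : QuasiCompact (pullback.snd g ζ).left :=
    MorphismProperty.of_isPullback (P := @QuasiCompact) sqS hqc
  have h3 : LocallyQuasiFinite (pullback.snd g ζ).left :=
    MorphismProperty.of_isPullback (P := @LocallyQuasiFinite) sqS hqf
  have h4 : LocallyOfFiniteType (pullback.snd g ζ).left :=
    MorphismProperty.of_isPullback (P := @LocallyOfFiniteType) sqS hft
  have : IsAffine Z.left := hZ
  exact ⟨pullback g ζ, pullback.snd g ζ, (yon S).map (pullback.fst g ζ), sq.map (yon S),
    isQuasiAffine_of_lqf_separated (pullback.snd g ζ).left⟩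

/-- **Zariski's main theorem for algebraic spaces over a scheme**: a separated, quasi-compact,
locally quasi-finite morphism from an algebraic space to a scheme is quasi-affine. -/
theorem isQuasiAffineMor_of_sep_qc_lqf {T : Over S} {X : Sp S} (hX : IsAlgSpace X)
    (f : X ⟶ (yon S).obj T) (hsep : IsSeparatedMor f) (hqc : IsQuasiCompactMor f)
    (hqf : LocP (@LocallyQuasiFinite ⊓ @LocallyOfFiniteType) f) : IsQuasiAffineMor f := by
  obtain ⟨G, ⟨e⟩⟩ := exists_iso_yon_of_lqf_separated hX f hsep hqf
  obtain ⟨g, hg⟩ := (yon S).map_surjective (e.hom ≫ f)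
  have hf : f = e.symm.hom ≫ (yon S).map g := by rw [hg]; simp
  rw [hf]
  apply isQuasiAffineMor_of_iso_comp e.symm
  have sq : IsPullback e.hom ((yon S).map g) f (𝟙 _) :=
    IsPullback.of_horiz_isIso ⟨by rw [hg]; simp⟩
  have hsep' : IsSeparatedMor ((yon S).map g) := isSeparatedMor_of_isPullback sq hsep
  have hqc' : IsQuasiCompactMor ((yon S).map g) :=
    Groth.Agent.H49.isQuasiCompactMor_of_isPullback sq hqc
  have hqf' : LocP (@LocallyQuasiFinite ⊓ @LocallyOfFiniteType) ((yon S).map g) :=
    locP_lqf_of_isPullback hX (IsAlgSpace.yon_obj T) (IsAlgSpace.yon_obj T) sq hqf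
  have h1 : IsSeparated g.left := (isSeparatedMor_yon_map_iff g).1 hsep'
  have h2 : QuasiCompact g.left := by
    have hr : Representable ((yon S).map g) := (IsAlgSpace.yon_obj T).representable_from_yon _
    exact (repWith_yon_map_iff @QuasiCompact g).1
      ((Groth.Agent.H49.repWith_quasiCompact_iff _ hr).2 hqc')
  have h3 := locP_yon_map hqf'
  exact isQuasiAffineMor_yon_map_of_sep_qc_lqf g h1 h2 h3.1 h3.2

end Groth.Agent.H64.DMQ
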