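import Groth.Agent.H64.DMQ.UnramDiag
import Groth.Agent.H64.DMQ.SepQcLqf
import Groth.Agent.H64.Psh.QSepTFAE
import Groth.Agent.H64.Psh.PSource2
import Groth.Agent.S10535
import Groth.Agent.S10541

set_option autoImplicit false
open CategoryTheory CategoryTheory.Limits AlgebraicGeometry Opposite
universe u

/-! A morphism of categories fibred in groupoids which is representable by algebraic spaces,
separated, quasi-compact and locally quasi-finite is quasi-affine; the diagonal of a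
Deligne-Mumford stack. -/

namespace Groth.Agent.H64.DMQ

open AlgSt Groth.Agent.H32 Groth.Agent.H64 Groth.Agent.H64.PTh Groth.Agent.H64.FpRep
  Groth.Agent.H64.Recog

variable {S : Scheme.{u}}

theorem stableBC_isSeparatedMor : StableBC (AlgSp.IsSeparatedMor (S := S)) :=
  fun _ _ _ _ _ _ _ _ _ _ _ _ sq h => Groth.Agent.H53.ZMT.isSeparatedMor_of_isPullback sq h

theorem stableBC_isQuasiCompactMor : StableBC (AlgSp.IsQuasiCompactMor (S := S)) :=
  fun _ _ _ _ _ _ _ _ _ _ _ _ sq h => Groth.Agent.H49.isQuasiCompactMor_of_isPullback sq h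

/-- a morphism representable by algebraic spaces which is separated, quasi-compact and locally
quasi-finite is quasi-affine -/
theorem repByAlgSpWith_isQuasiAffineMor_of_sep_qc_lqf {𝒳 𝒴 : AlgSt.Cat S}
    (h𝒳 : FibCat.IsFibGrpd 𝒳.p) (h𝒴 : FibCat.IsFibGrpd 𝒴.p) (f : 𝒳 ⥤ᵇ 𝒴)
    (hsep : RepByAlgSpWith AlgSp.IsSeparatedMor f)
    (hqc : RepByAlgSpWith AlgSp.IsQuasiCompactMor f)
    (hqf : RepByAlgSpWith (AlgSp.LocP (@LocallyQuasiFinite ⊓ @LocallyOfFiniteType)) f) :
    RepByAlgSpWith AlgSp.IsQuasiAffineMor f := by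
  apply repByAlgSpWith_of_hasP f
  intro U z
  obtain ⟨V, a, e, he, ⟨α⟩, hsepa⟩ := hasP_of_repByAlgSpWith h𝒳 h𝒴 stableBC_isSeparatedMor
    (isLocalOnBase_fppf_of_fpqc (Groth.Agent.S10535.result S)) f hsep (yonSpace U) z
  have hqca := prop_of_presentation h𝒳 h𝒴 stableBC_isQuasiCompactMor
    isLocalOnBase_fppf_quasiCompact f hqc (yonSpace U) z V a e he α
  have hqfa := prop_of_presentation h𝒳 h𝒴 (stableBC_locP Groth.Agent.H50.goodClass_lqf)
    (isLocalOnBase_fppf_of_fpqc (Groth.Agent.S10541.result S).1) f hqf (yonSpace U) z V a e he α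
  exact ⟨V, a, e, he, ⟨α⟩, isQuasiAffineMor_of_sep_qc_lqf V.property a.hom hsepa hqca hqfa⟩

/-- the diagonal of a category fibred in groupoids with an etale surjective atlas is quasi-affine as
soon as it is separated and quasi-compact -/
theorem repByAlgSpWith_isQuasiAffineMor_diag_of_etale_atlas {𝒳 : AlgSt.Cat S}
    (h𝒳 : FibCat.IsFibGrpd 𝒳.p) (hat : HasAtlas AlgSp.IsEtaleMor 𝒳)
    (hsep : RepByAlgSpWith AlgSp.IsSeparatedMor (FibCat.diag (FibCat.toSelf 𝒳)))
    (hqc : RepByAlgSpWith AlgSp.IsQuasiCompactMor (FibCat.diag (FibCat.toSelf 𝒳))) :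
    RepByAlgSpWith AlgSp.IsQuasiAffineMor (FibCat.diag (FibCat.toSelf 𝒳)) :=
  repByAlgSpWith_isQuasiAffineMor_of_sep_qc_lqf h𝒳
    (isFibGrpd_fp _ _ h𝒳 h𝒳 (isFibGrpd_selfOver _)) _ hsep hqc
    (isQuasiDMOver_of_etale_atlas h𝒳 (RepByAlgSpWith.repByAlgSp1 hsep) hat)

end Groth.Agent.H64.DMQ
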