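import Groth.Agent.H65.AlgStSelfRep
import Groth.Agent.H64.UnramQF
import Groth.Agent.H51.SpEtale
import Groth.Agent.S10543

set_option autoImplicit false
open CategoryTheory CategoryTheory.Limits AlgebraicGeometry
universe v u

/-! A category fibred in groupoids with representable diagonal and an etale surjective atlas has
unramified (hence locally quasi-finite) diagonal. -/

namespace Groth.Agent.H64.DMQ

open AlgSt Groth.Agent.H32 Groth.Agent.H64 Groth.Agent.H64.PTh Groth.Agent.H64.FpRep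
  Groth.Agent.H65.AlgStSelfRep

variable {S : Scheme.{u}}

/-- variant of `H65.AlgStSelfRep.repByAlgSpWith_diag_toSelf_of_cover` which does not need the
stack condition -/
theorem repByAlgSpWith_diag_toSelf_of_cover' {Q : MorphismProperty Scheme.{u}}
    (hG : Groth.Agent.H50.GoodClass Q)
    (hQl : AlgSp.IsLocalOnBase (AlgSp.IsFpqcCover (S := S)) (AlgSp.LocP Q))
    (hQd : ∀ (V : AlgSp.Space S) (T : Over S) (b : V.obj ⟶ (AlgSp.yon S).obj T),
      AlgSp.LocP Q (pullback.diagonal b))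
    {𝒳 𝒰 : AlgSt.Cat S} (h𝒳 : FibCat.IsFibGrpd 𝒳.p)
    (hΔ : RepByAlgSp1 (FibCat.diag (FibCat.toSelf 𝒳)))
    (h𝒰 : FibCat.IsFibGrpd 𝒰.p) (hr : RepByAlgSp 𝒰) (w : 𝒰 ⥤ᵇ 𝒳)
    (hw₁ : RepByAlgSpWith (AlgSp.LocP @Flat) w)
    (hw₂ : RepByAlgSpWith (AlgSp.LocP @LocallyOfFinitePresentation) w)
    (hw₃ : RepByAlgSpWith AlgSp.IsSurjectiveMor w)
    (hw₄ : RepByAlgSpWith (AlgSp.LocP Q) w) :
    RepByAlgSpWith (AlgSp.LocP Q) (FibCat.diag (FibCat.toSelf 𝒳)) := by
  obtain ⟨e⟩ := self_biso_nonempty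
    (BasedFunctor.comp (BasedFunctor.comp
        (FibCat.fpFst (FibCat.toSelf 𝒰) (FibCat.toSelf 𝒰)) w) (FibCat.toSelf 𝒳))
    (BasedFunctor.comp (BasedFunctor.comp
        (FibCat.fpSnd (FibCat.toSelf 𝒰) (FibCat.toSelf 𝒰)) w) (FibCat.toSelf 𝒳))
  have hs : RepByAlgSp1 (FibCat.toSelf 𝒰) := repByAlgSp1_toSelf hr
  refine diag_toSelf_of_atlas_aux (AlgSp.LocP Q) (stableBC_locP hG)
    (fun _ _ _ _ hY _ a b ha hb => hG.locP_comp hY a b ha hb)
    (isLocalOnBase_fppf_of_fpqc hQl) hQd h𝒳 h𝒰 hΔ w hw₄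
    (FibCat.toSelf 𝒰) (toSelf_eq_comp w)
    (repByAlgSp1_fpFst (FibCat.toSelf 𝒰) (FibCat.toSelf 𝒰) hs) e ?_ ?_ ?_
  · exact repByAlgSpWith_prodF h𝒰 h𝒳 (stableBC_locP Groth.Agent.H50.goodClass_flat)
      (fun _ _ _ _ hY _ a b ha hb => Groth.Agent.H50.goodClass_flat.locP_comp hY a b ha hb)
      isLocalOnBase_fppf_flat w w hw₁ hw₁ e
  · exact repByAlgSpWith_prodF h𝒰 h𝒳 (stableBC_locP Groth.Agent.H50.goodClass_lfp)
      (fun _ _ _ _ hY _ a b ha hb => Groth.Agent.H50.goodClass_lfp.locP_comp hY a b ha hb)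
      isLocalOnBase_fppf_lfp w w hw₂ hw₂ e
  · exact repByAlgSpWith_prodF h𝒰 h𝒳 stableBC_surj
      (fun _ _ _ _ _ _ _ _ ha hb => Groth.Agent.H49.isSurjectiveMor_comp ha hb)
      isLocalOnBase_fppf_surj w w hw₃ hw₃ e

theorem isEtaleMor_le_locP (P : MorphismProperty Scheme.{u}) (hP : @Etale ≤ P) :
    (AlgSp.IsEtaleMor (S := S)) ≤ AlgSp.LocP P :=
  fun _ _ _ hf => Groth.Agent.H51.locP_of_isEtaleMor hf P hP

theorem etale_le_flat : (@Etale : MorphismProperty Scheme.{u}) ≤ @Flat := fun _ _ g hg => by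
  have : Etale g := hg
  infer_instance

theorem etale_le_lfp : (@Etale : MorphismProperty Scheme.{u}) ≤ @LocallyOfFinitePresentation :=
  fun _ _ g hg => by
    have : Etale g := hg
    infer_instance

theorem etale_le_unram : (@Etale : MorphismProperty Scheme.{u}) ≤
    (@LocallyOfFiniteType ⊓ @FormallyUnramified : MorphismProperty Scheme.{u}) := fun _ _ g hg => by
  have : Etale g := hg
  exact ⟨inferInstance, inferInstance⟩

/-- a category fibred in groupoids with representable diagonal and an etale surjective atlas is DM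
over the base -/
theorem isDMOver_of_etale_atlas {𝒳 : AlgSt.Cat S} (h𝒳 : FibCat.IsFibGrpd 𝒳.p)
    (hΔ : RepByAlgSp1 (FibCat.diag (FibCat.toSelf 𝒳)))
    (hat : HasAtlas AlgSp.IsEtaleMor 𝒳) : IsDMOver 𝒳 := by
  obtain ⟨U, x, hxE, hxS⟩ := hat
  exact repByAlgSpWith_diag_toSelf_of_cover' Groth.Agent.H50.goodClass_unram
    (Groth.Agent.S10543.result S)
    (fun V _ b => Groth.Agent.H64.PTh.locP_unram_diagonal V.property b) h𝒳 hΔ
    (Groth.Agent.H64.Recog.isFibSetoid_overCat U).1 (repByAlgSp_overCat U) x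
    (repByAlgSpWith_mono (isEtaleMor_le_locP _ etale_le_flat) hxE)
    (repByAlgSpWith_mono (isEtaleMor_le_locP _ etale_le_lfp) hxE) hxS
    (repByAlgSpWith_mono (isEtaleMor_le_locP _ etale_le_unram) hxE)

/-- … hence quasi-DM over the base -/
theorem isQuasiDMOver_of_etale_atlas {𝒳 : AlgSt.Cat S} (h𝒳 : FibCat.IsFibGrpd 𝒳.p)
    (hΔ : RepByAlgSp1 (FibCat.diag (FibCat.toSelf 𝒳)))
    (hat : HasAtlas AlgSp.IsEtaleMor 𝒳) : IsQuasiDMOver 𝒳 :=
  repByAlgSpWith_mono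
    (P := AlgSp.LocP (@LocallyOfFiniteType ⊓ @FormallyUnramified : MorphismProperty Scheme.{u}))
    (fun _ _ _ h => locP_mono unramified_le_quasiFinite h)
    (isDMOver_of_etale_atlas h𝒳 hΔ hat)

end Groth.Agent.H64.DMQ
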